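import Cfsg.Agent.SuzCover.Data
import Cfsg.Agent.Leech.Co1
import Cfsg.Agent.CosetCert.Basic

/-!
Evaluated words in seven lattice automorphisms and a fixed-point-free element of order three.
-/

set_option autoImplicit false
set_option maxRecDepth 100000

namespace Cfsg.Agent.SuzCover

open Cfsg Cfsg.Agent.Leech Cfsg.Agent.CosetCert

/-- the identity -/
def oneGen : LGen := ⟨1, id, fun v => by rw [one_smul]; rfl⟩

/-- the negation -/
def negGen : LGen := ⟨zneg, List.map fun a => -a, fun v => by
  rw [zneg_smul]
  simp [toL]⟩

/-- pass on an evaluated integer -/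
noncomputable def forceI {β : Sort*} (a : ℤ) (k : ℤ → β) : β :=
  Int.rec (fun n => force n fun n => k (Int.ofNat n)) (fun n => force n fun n => k (Int.negSucc n)) a

theorem forceI_eq {β : Sort*} (a : ℤ) (k : ℤ → β) : forceI a k = k a := by
  cases a <;> simp [forceI]

/-- pass on an evaluated list -/
noncomputable def forceL {β : Type} (l : List ℤ) : (List ℤ → β) → β :=
  List.rec (motive := fun _ => (List ℤ → β) → β) (fun k => k [])
    (fun a _ ih k => forceI a fun a => ih fun t => k (a :: t)) l

theorem forceL_eq {β : Type} : ∀ (l : List ℤ) (k : List ℤ → β), forceL l k = k l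
  | [], k => rfl
  | a :: t, k => by
    show forceI a (fun a => forceL t fun t => k (a :: t)) = _
    rw [forceI_eq, forceL_eq t]

/-- composition through evaluated lists -/
noncomputable def scomp (a b : LGen) : LGen := ⟨a.g * b.g, fun l => forceL (b.f l) a.f, fun v => by
  rw [forceL_eq]
  exact (a.comp b).spec v⟩

/-- a product of a list -/
noncomputable def prodGen : List LGen → LGen
  | [] => oneGen
  | a :: l => scomp a (prodGen l)

theorem prodGen_g : ∀ l : List LGen, (prodGen l).g = (l.map LGen.g).prod
  | [] => rfl
  | a :: l => by
    rw [List.map_cons, List.prod_cons, ← prodGen_g l]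
    rfl

/-- the scalar product, for evaluation -/
noncomputable def dotR (r : List ℤ) : List ℤ → ℤ :=
  List.rec (motive := fun _ => List ℤ → ℤ) (fun _ => 0)
    (fun a _ ih l => List.rec (motive := fun _ => ℤ) 0 (fun b t _ => a * b + ih t) l) r

theorem dotR_eq : ∀ r l : List ℤ, dotR r l = dotL r l
  | [], l => by cases l <;> rfl
  | a :: r, [] => rfl
  | a :: r, b :: l => by
    show a * b + dotR r l = _
    rw [dotR_eq r l]
    rfl

/-- the action of a matrix, for evaluation -/
noncomputable def rowsR (A : List (List ℤ)) (l : List ℤ) : List ℤ :=
  List.rec (motive := fun _ => List ℤ) [] (fun r _ ih => dotR r l / 8 :: ih) A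

theorem rowsR_eq : ∀ (A : List (List ℤ)) (l : List ℤ), rowsR A l = A.map fun r => dotL r l / 8
  | [], _ => rfl
  | r :: A, l => by
    show dotR r l / 8 :: rowsR A l = _
    rw [dotR_eq, rowsR_eq A l]
    rfl

/-- a matrix element, for evaluation -/
noncomputable def fastGen {A : List (List ℤ)} (h : goodB A = true) : LGen :=
  ⟨(matGen h).g, rowsR A, fun v => by rw [rowsR_eq]; exact (matGen h).spec v⟩

/-- the seven generators -/
noncomputable def gens : List LGen :=
  [fastGen good_a, fastGen good_b, fastGen good_c, fastGen good_d, fastGen good_e, fastGen good_f, fastGen good_g]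

/-- the central element of order six -/
noncomputable def uGen : LGen := scomp negGen (fastGen good_w)

/-- a word in the generators -/
noncomputable def wGen (w : List ℕ) : LGen := prodGen (w.map fun x => gens.getD x oneGen)

/-- a power of the central element -/
noncomputable def uPow (k : ℕ) : LGen := prodGen (List.replicate k uGen)

theorem uPow_g (k : ℕ) : (uPow k).g = uGen.g ^ k := by
  rw [uPow, prodGen_g, List.map_replicate, List.prod_replicate]

/-- the lists of the octads -/
def octLists : List (List ℤ) := (List.range 24).map fun i => (List.range 24).map fun a => if a = i then 8 else 0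

theorem oct_list (p : GolayPt) : toL (oct p : GolayPt → ℤ) = octLists.getD (idx p) [] := by
  revert p; decide +kernel

/-- two elements act the same way -/
def sameB (a b : LGen) : Bool := octLists.all fun l => decide (a.f l = b.f l)

theorem same_eq {a b : LGen} (h : sameB a b = true) : a.g = b.g := by
  refine ext_of_oct fun p => Subtype.ext ?_
  have e : toL ((a.g • oct p : leechLattice) : GolayPt → ℤ) = toL ((b.g • oct p : leechLattice) : GolayPt → ℤ) := by
    rw [a.spec, b.spec, oct_list]
    refine of_decide_eq_true (List.all_eq_true.1 h _ ?_)
    rw [List.getD_eq_getElem _ _ (by simpa [octLists] using idx_lt p)]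
    exact List.getElem_mem _
  funext q
  have := congrArg (fun l : List ℤ => l.getD (idx q) 0) e
  change (toL _).getD _ _ = (toL _).getD _ _ at this
  rw [toL_getD _ _ (idx_lt q), toL_getD _ _ (idx_lt q), ptOf_idx] at this
  exact this

theorem differ_ne {a b : LGen} (h : sameB a b = false) : a.g ≠ b.g := by
  intro e
  have hall : sameB a b = true := List.all_eq_true.2 fun l hl => decide_eq_true <| by
    obtain ⟨i, hi, rfl⟩ := List.mem_map.1 hl
    have hi' : i < 24 := List.mem_range.1 hi
    have h1 := a.spec (oct (ptOf i))
    rw [e, b.spec, oct_list, idx_ptOf i hi',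
      List.getD_eq_getElem _ _ (by simpa [octLists] using hi')] at h1
    simpa [octLists] using h1.symm
  simp [hall] at h

/-- the centraliser -/
abbrev CW : Subgroup ↥Co0 := Subgroup.centralizer {uGen.g}

/-- the comparison on some of the lists -/
noncomputable def sameOn (ls : List (List ℤ)) (a b : LGen) : Bool := ls.all fun l => decide (a.f l = b.f l)

theorem same_split {a b : LGen} (h0 : sameOn (octLists.take 8) a b = true)
    (h1 : sameOn ((octLists.drop 8).take 8) a b = true) (h2 : sameOn (octLists.drop 16) a b = true) :
    sameB a b = true := by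
  have e : octLists = octLists.take 8 ++ ((octLists.drop 8).take 8 ++ octLists.drop 16) := by decide +kernel
  unfold sameB
  rw [e, List.all_append, List.all_append]
  unfold sameOn at h0 h1 h2
  rw [h0, h1, h2]
  rfl

/-- the word is a given power of the central element -/
noncomputable def isPow (w : List ℕ) (k : ℕ) : Bool := sameB (wGen w) (uPow k)

end Cfsg.Agent.SuzCover
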