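import Cfsg.Agent.SuzCover.Gens

/-! Generated: checks of words. -/

set_option autoImplicit false
set_option Elab.async false
set_option maxRecDepth 100000

namespace Cfsg.Agent.SuzCover

theorem rel1 : isPow [0, 1, 0, 1, 0, 1, 0, 1, 0, 1] 0 = true := by decide +kernel

theorem rel4 : isPow [0, 4, 0, 4] 3 = true := by decide +kernel

theorem rel7 : isPow [1, 1] 0 = true := by decide +kernel

theorem rel10 : isPow [1, 4, 1, 4] 3 = true := by decide +kernel

theorem rel13 : isPow [2, 2] 0 = true := by decide +kernel

theorem rel16 : isPow [2, 5, 2, 5] 0 = true := by decide +kernel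

theorem rel19 : isPow [3, 4, 3, 4, 3, 4] 0 = true := by decide +kernel

theorem rel22 : isPow [4, 4] 3 = true := by decide +kernel

theorem rel25 : isPow [5, 5] 0 = true := by decide +kernel

theorem rel28 : isPow [0, 3, 2, 3, 2, 3, 2, 3, 2] 3 = true := by decide +kernel

theorem rel31 : isPow [1, 5, 6, 1, 5, 6, 1, 5, 6, 1, 5, 6, 1, 5, 6] 1 = true := by decide +kernel

theorem one_comm : sameB (scomp uGen oneGen) (scomp oneGen uGen) = true := by decide +kernel

theorem a_not_cent : ((List.range 6).any fun k => isPow [0] k) = false := by decide +kernel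

end Cfsg.Agent.SuzCover
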