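import Cfsg.Agent.SuzCover.Gens

/-! Generated: checks of words. -/

set_option autoImplicit false
set_option Elab.async false
set_option maxRecDepth 100000

namespace Cfsg.Agent.SuzCover

theorem rel2 : isPow [0, 2, 0, 2] 0 = true := by decide +kernel

theorem rel5 : isPow [0, 5, 0, 5] 0 = true := by decide +kernel

theorem rel8 : isPow [1, 2, 1, 2, 1, 2] 0 = true := by decide +kernel

theorem rel11 : isPow [1, 5, 1, 5, 1, 5] 0 = true := by decide +kernel

theorem rel14 : isPow [2, 3, 2, 3, 2, 3, 2, 3, 2, 3, 2, 3, 2, 3, 2, 3] 0 = true := by decide +kernel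

theorem rel17 : isPow [2, 6, 2, 6] 0 = true := by decide +kernel

theorem rel20 : isPow [3, 5, 3, 5] 3 = true := by decide +kernel

theorem rel23 : isPow [4, 5, 4, 5] 3 = true := by decide +kernel

theorem rel26 : isPow [5, 6, 5, 6, 5, 6, 5, 6] 0 = true := by decide +kernel

theorem rel29 : isPow [0, 6, 5, 6, 5] 3 = true := by decide +kernel

theorem order_ok : sameB (uPow 6) oneGen = true ∧ sameB (uPow 1) oneGen = false ∧
    sameB (uPow 2) oneGen = false ∧ sameB (uPow 3) oneGen = false ∧ sameB (uPow 4) oneGen = false ∧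
    sameB (uPow 5) oneGen = false := by decide +kernel

end Cfsg.Agent.SuzCover
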