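import Cfsg.Agent.SuzCover.Check0
import Cfsg.Agent.SuzCover.Check1
import Cfsg.Agent.SuzCover.Check2
import Cfsg.Agent.SuzCover.Check3
import Cfsg.Agent.SuzCover.Check4
import Cfsg.Agent.SuzCover.Check5
import Cfsg.Agent.CosetCert.SuzOrder.Main
import Cfsg.Prelude.Def_KGroupFacts

/-!
A sixfold stem extension of the presented Suzuki group inside the centraliser of a fixed-point-free element of
order three in the automorphism group of the lattice.
-/

set_option autoImplicit false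
set_option maxRecDepth 100000

namespace Cfsg.Agent.SuzCover

open Cfsg Cfsg.Agent.Leech Cfsg.Agent.CosetCert

noncomputable section

theorem gen_mem (x : ℕ) : (gens.getD x oneGen).g ∈ CW := by
  rw [Subgroup.mem_centralizer_singleton_iff]
  have h : sameB (scomp uGen (gens.getD x oneGen)) (scomp (gens.getD x oneGen) uGen) = true := by
    by_cases hx : x < gens.length
    · rw [List.getD_eq_getElem _ _ hx]
      exact List.all_eq_true.1 comm_ok _ (List.getElem_mem hx)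
    · rw [List.getD_eq_default _ _ (not_lt.1 hx)]
      exact one_comm
  exact (same_eq h).symm

/-- the generators in the centraliser -/
def gE (x : ℕ) : CW := ⟨(gens.getD x oneGen).g, gen_mem x⟩

/-- the central element -/
noncomputable def uE : CW := ⟨uGen.g, Subgroup.mem_centralizer_singleton_iff.2 rfl⟩

theorem coe_word : ∀ w : List ℕ, (((w.map gE).prod : CW) : ↥Co0) = (wGen w).g := fun w => by
  rw [wGen, prodGen_g, List.map_map, SubmonoidClass.coe_list_prod, List.map_map]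
  rfl

theorem uE_center : uE ∈ Subgroup.center CW :=
  Subgroup.mem_center_iff.2 fun y => Subtype.ext (Subgroup.mem_centralizer_singleton_iff.1 y.2)

theorem Z_le : Subgroup.zpowers uE ≤ Subgroup.center CW := (Subgroup.zpowers_le).2 uE_center

instance : (Subgroup.zpowers uE).Normal :=
  ⟨fun n hn g => by
    rw [Subgroup.mem_center_iff.1 (Z_le hn) g, mul_inv_cancel_right]; exact hn⟩

theorem order_uE : orderOf uE = 6 := by
  rw [← Subgroup.orderOf_coe, orderOf_eq_iff (by norm_num)]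
  obtain ⟨h6, h1, h2, h3, h4, h5⟩ := order_ok
  refine ⟨(uPow_g 6).symm.trans (same_eq h6), fun m hm hm' e => ?_⟩
  have e' : (uPow m).g = oneGen.g := (uPow_g m).trans e
  interval_cases m
  · exact differ_ne h1 e'
  · exact differ_ne h2 e'
  · exact differ_ne h3 e'
  · exact differ_ne h4 e'
  · exact differ_ne h5 e'

/-- the relators as positive words -/
def relNums : List (List ℕ) :=
  (coxWords SuzG24.genList Cfsg.Spor.Suz.edges Cfsg.Spor.Suz.extra).map (List.map fun a => SuzG24.enc a.1)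

theorem relNums_eq : relNums = [[0, 0],
    [0, 1, 0, 1, 0, 1, 0, 1, 0, 1],
    [0, 2, 0, 2],
    [0, 3, 0, 3],
    [0, 4, 0, 4],
    [0, 5, 0, 5],
    [0, 6, 0, 6],
    [1, 1],
    [1, 2, 1, 2, 1, 2],
    [1, 3, 1, 3],
    [1, 4, 1, 4],
    [1, 5, 1, 5, 1, 5],
    [1, 6, 1, 6, 1, 6],
    [2, 2],
    [2, 3, 2, 3, 2, 3, 2, 3, 2, 3, 2, 3, 2, 3, 2, 3],
    [2, 4, 2, 4],
    [2, 5, 2, 5],
    [2, 6, 2, 6],
    [3, 3],
    [3, 4, 3, 4, 3, 4],
    [3, 5, 3, 5],
    [3, 6, 3, 6],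
    [4, 4],
    [4, 5, 4, 5],
    [4, 6, 4, 6],
    [5, 5],
    [5, 6, 5, 6, 5, 6, 5, 6],
    [6, 6],
    [0, 3, 2, 3, 2, 3, 2, 3, 2],
    [0, 6, 5, 6, 5],
    [0, 1, 2, 5, 0, 1, 2, 5, 0, 1, 2, 5, 0, 1, 2, 5, 0, 1, 2, 5],
    [1, 5, 6, 1, 5, 6, 1, 5, 6, 1, 5, 6, 1, 5, 6],
    [1, 2, 3, 2, 3, 1, 2, 3, 2, 3, 1, 2, 3, 2, 3, 1, 2, 3, 2, 3, 1, 2, 3, 2, 3, 4, 1, 2, 3, 2, 3, 1, 2, 3, 2, 3, 1, 2, 3, 2, 3, 1, 2, 3, 2, 3, 1, 2, 3, 2, 3, 4, 1, 2, 3, 2, 3, 1, 2, 3, 2, 3, 1, 2, 3, 2, 3, 1, 2, 3, 2, 3, 1, 2, 3, 2, 3, 4]] := by decide +kernel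

theorem rels_cent : ∀ w ∈ relNums, ∃ k, sameB (wGen w) (uPow k) = true := by
  rw [relNums_eq]
  simp only [List.forall_mem_cons, List.not_mem_nil, false_imp_iff, implies_true, and_true]
  exact ⟨⟨0, rel0⟩,
    ⟨0, rel1⟩,
    ⟨0, rel2⟩,
    ⟨3, rel3⟩,
    ⟨3, rel4⟩,
    ⟨0, rel5⟩,
    ⟨0, rel6⟩,
    ⟨0, rel7⟩,
    ⟨0, rel8⟩,
    ⟨3, rel9⟩,
    ⟨3, rel10⟩,
    ⟨0, rel11⟩,
    ⟨0, rel12⟩,
    ⟨0, rel13⟩,
    ⟨0, rel14⟩,
    ⟨3, rel15⟩,
    ⟨0, rel16⟩,
    ⟨0, rel17⟩,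
    ⟨3, rel18⟩,
    ⟨0, rel19⟩,
    ⟨3, rel20⟩,
    ⟨3, rel21⟩,
    ⟨3, rel22⟩,
    ⟨3, rel23⟩,
    ⟨3, rel24⟩,
    ⟨0, rel25⟩,
    ⟨0, rel26⟩,
    ⟨0, rel27⟩,
    ⟨3, rel28⟩,
    ⟨3, rel29⟩,
    ⟨3, rel30⟩,
    ⟨1, rel31⟩,
    ⟨0, same_split rel32_0 rel32_1 rel32_2⟩⟩

theorem word_mem {w : List ℕ} (h : ∃ k, sameB (wGen w) (uPow k) = true) : (w.map gE).prod ∈ Subgroup.zpowers uE := by
  obtain ⟨k, hk⟩ := h
  refine ⟨k, Subtype.ext ?_⟩
  show ((uE ^ (k : ℤ) : CW) : ↥Co0) = _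
  rw [zpow_natCast, SubgroupClass.coe_pow, coe_word, same_eq hk, uPow_g]
  rfl

/-- the images modulo the central subgroup -/
def bar (z : Cfsg.Spor.Suz.Gen) : CW ⧸ Subgroup.zpowers uE :=
  QuotientGroup.mk' _ (gE (SuzG24.enc z))

theorem bar_inv (z : Cfsg.Spor.Suz.Gen) : (bar z)⁻¹ = bar z := by
  refine inv_eq_of_mul_eq_one_right ?_
  rw [bar, ← map_mul, ← MonoidHom.mem_ker, QuotientGroup.ker_mk']
  have h : ([SuzG24.enc z, SuzG24.enc z].map gE).prod ∈ Subgroup.zpowers uE := word_mem (by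
    cases z
    exacts [⟨_, rel0⟩, ⟨_, rel7⟩, ⟨_, rel13⟩, ⟨_, rel18⟩, ⟨_, rel22⟩, ⟨_, rel25⟩, ⟨_, rel27⟩])
  simpa using h

theorem lift_mk (l : List (Cfsg.Spor.Suz.Gen × Bool)) :
    FreeGroup.lift bar (FreeGroup.mk l) =
      QuotientGroup.mk' _ ((l.map fun a => SuzG24.enc a.1).map gE).prod := by
  rw [FreeGroup.lift_mk, map_list_prod, List.map_map, List.map_map]
  refine congrArg List.prod (List.map_congr_left fun a _ => ?_)
  obtain ⟨z, _ | _⟩ := a
  · exact bar_inv z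
  · rfl

/-- the relators hold modulo the central subgroup -/
theorem bar_rels : ∀ r ∈ Cfsg.Spor.coxRelators Cfsg.Spor.Suz.edges ∪ {r | r ∈ Cfsg.Spor.Suz.extra},
    FreeGroup.lift bar r = 1 := by
  intro r hr
  have hle : Subgroup.normalClosure {r | r ∈ (coxWords SuzG24.genList Cfsg.Spor.Suz.edges
      Cfsg.Spor.Suz.extra).map FreeGroup.mk} ≤ (FreeGroup.lift bar).ker := by
    refine Subgroup.normalClosure_le_normal ?_
    intro r hr
    obtain ⟨w, hw, rfl⟩ := List.mem_map.mp hr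
    rw [SetLike.mem_coe, MonoidHom.mem_ker, lift_mk, ← MonoidHom.mem_ker, QuotientGroup.ker_mk']
    exact word_mem (rels_cent _ (List.mem_map.2 ⟨w, hw, rfl⟩))
  exact MonoidHom.mem_ker.mp (hle (SuzG24.spells.rels_mem hr))

/-- the map to the quotient -/
def psi : Cfsg.Spor.Suz →* CW ⧸ Subgroup.zpowers uE := PresentedGroup.toGroup bar_rels

theorem psi_injective : Function.Injective psi := by
  have : IsSimpleGroup Cfsg.Spor.Suz := SuzOrder.order_and_simple.1
  rw [← MonoidHom.ker_eq_bot_iff]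
  refine psi.normal_ker.eq_bot_or_eq_top.resolve_right fun h => ?_
  have h1 : psi (PresentedGroup.of .a) = 1 := MonoidHom.mem_ker.1 (h ▸ Subgroup.mem_top _)
  rw [psi, PresentedGroup.toGroup.of, bar, ← MonoidHom.mem_ker, QuotientGroup.ker_mk'] at h1
  obtain ⟨j, hj⟩ := h1
  have hj' : uE ^ ((j % 6).toNat : ℕ) = gE 0 := by
    rw [← zpow_natCast, Int.toNat_of_nonneg (Int.emod_nonneg _ (by norm_num)),
      show (6 : ℤ) = ((orderOf uE : ℕ) : ℤ) by rw [order_uE]; rfl, zpow_mod_orderOf]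
    exact hj
  have hb : sameB (wGen [0]) (uPow (j % 6).toNat) = false := by
    have := List.any_eq_false.1 a_not_cent (j % 6).toNat
      (List.mem_range.2 (by have := Int.emod_lt_of_pos j (show (0:ℤ) < 6 by norm_num); omega))
    simpa [isPow] using this
  refine differ_ne hb ?_
  rw [uPow_g, ← coe_word]
  have := congrArg Subtype.val hj'
  simpa [uE] using this.symm

/-- the preimage of the quotient group -/
def cover : Subgroup CW := psi.range.comap (QuotientGroup.mk' (Subgroup.zpowers uE))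

/-- the projection -/
noncomputable def proj : cover →* Cfsg.Spor.Suz :=
  (MonoidHom.ofInjective psi_injective).symm.toMonoidHom.comp
    (((QuotientGroup.mk' _).comp cover.subtype).codRestrict psi.range fun x => x.2)

theorem psi_proj (x : cover) : psi (proj x) = QuotientGroup.mk' _ (x : CW) :=
  congrArg Subtype.val ((MonoidHom.ofInjective psi_injective).apply_symm_apply
    ⟨QuotientGroup.mk' _ (x : CW), x.2⟩)

theorem proj_surjective : Function.Surjective proj := fun y => by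
  obtain ⟨x, hx⟩ := QuotientGroup.mk'_surjective _ (psi y)
  exact ⟨⟨x, ⟨y, hx.symm⟩⟩, psi_injective ((psi_proj _).trans hx)⟩

theorem uE_mem : uE ∈ cover :=
  ⟨1, by rw [map_one]; exact ((QuotientGroup.eq_one_iff _).2 (Subgroup.mem_zpowers uE)).symm⟩

theorem gE_mem (z : Cfsg.Spor.Suz.Gen) : gE (SuzG24.enc z) ∈ cover :=
  ⟨PresentedGroup.of z, PresentedGroup.toGroup.of _⟩

/-- the central element in the cover -/
noncomputable def uC : cover := ⟨uE, uE_mem⟩

theorem ker_proj : proj.ker = Subgroup.zpowers uC := by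
  ext x
  rw [MonoidHom.mem_ker, ← psi_injective.eq_iff, psi_proj, map_one, ← MonoidHom.mem_ker,
    QuotientGroup.ker_mk']
  constructor
  · rintro ⟨j, hj⟩; exact ⟨j, Subtype.ext hj⟩
  · rintro ⟨j, rfl⟩; exact ⟨j, rfl⟩

theorem uC_center : uC ∈ Subgroup.center cover :=
  Subgroup.mem_center_iff.2 fun y => Subtype.ext (Subgroup.mem_center_iff.1 uE_center (y : CW))

theorem uC_mem_commutator : uC ∈ commutator cover := by
  classical
  let gC : ℕ → cover := fun x => if h : gE x ∈ cover then ⟨gE x, h⟩ else 1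
  let q := (Abelianization.of : cover →* Abelianization cover)
  have hm : ∀ x < 7, gE x ∈ cover := fun x hx => by
    interval_cases x
    exacts [gE_mem .a, gE_mem .b, gE_mem .c, gE_mem .d, gE_mem .e, gE_mem .f, gE_mem .g]
  have key : ∀ (w : List ℕ) (k : ℕ), (∀ x ∈ w, x < 7) → isPow w k = true →
      (w.map fun x => q (gC x)).prod = q uC ^ k := fun w k hw h => by
    have e : (w.map gC).prod = uC ^ k := by
      refine Subtype.ext (Subtype.ext ?_)
      rw [SubmonoidClass.coe_list_prod, List.map_map, SubgroupClass.coe_pow, SubgroupClass.coe_pow]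
      have hg : (w.map ((↑) ∘ gC) : List CW) = w.map gE := List.map_congr_left fun x hx => by
        simp [gC, hm x (hw x hx)]
      rw [hg, coe_word, same_eq (show sameB (wGen w) (uPow k) = true from h), uPow_g]
      rfl
    rw [← map_pow, ← e, map_list_prod, List.map_map]
    rfl
  rw [← Abelianization.ker_of, MonoidHom.mem_ker]
  obtain ⟨Q, hQ⟩ : ∃ Q, Q = fun x => q (gC x) := ⟨_, rfl⟩
  obtain ⟨U, hU⟩ : ∃ U, U = q uC := ⟨_, rfl⟩
  show q uC = 1
  rw [← hU]
  simp only [← hU, ← hQ] at key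
  clear hU hQ
  have E1 := key [0, 0] 0 (by decide) rel0
  have E2 := key [1, 1] 0 (by decide) rel7
  have E3 := key [2, 2] 0 (by decide) rel13
  have E4 := key [5, 5] 0 (by decide) rel25
  have E5 := key [6, 6] 0 (by decide) rel27
  have E6 := key [0, 1, 0, 1, 0, 1, 0, 1, 0, 1] 0 (by decide) rel1
  have E7 := key [1, 2, 1, 2, 1, 2] 0 (by decide) rel8
  have E8 := key [1, 5, 1, 5, 1, 5] 0 (by decide) rel11
  have E9 := key [1, 6, 1, 6, 1, 6] 0 (by decide) rel12
  have F1 := key [0, 6, 5, 6, 5] 3 (by decide) rel29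
  have F2 := key [0, 1, 2, 5, 0, 1, 2, 5, 0, 1, 2, 5, 0, 1, 2, 5, 0, 1, 2, 5] 3 (by decide) rel30
  have F3 := key [1, 5, 6, 1, 5, 6, 1, 5, 6, 1, 5, 6, 1, 5, 6] 1 (by decide) rel31
  simp only [List.map_cons, List.map_nil, List.prod_cons, List.prod_nil, mul_one, pow_zero, pow_one]
    at E1 E2 E3 E4 E5 E6 E7 E8 E9 F1 F2 F3
  clear key
  have p2 : ∀ X Y : Abelianization cover, X * X = 1 → X * (Y * (X * (Y * (X * (Y * (X * (Y * (X * Y)))))))) = 1 →
      Y * Y = 1 → Y = X := fun X Y hX h hY => by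
    have h2 : (X * Y) ^ 2 = 1 := by rw [pow_two, mul_mul_mul_comm, hX, hY, one_mul]
    have h5 : (X * Y) ^ (2 + 2 + 1) = 1 := by simpa [pow_succ, mul_assoc] using h
    rw [pow_succ, pow_add, h2, one_mul, one_mul] at h5
    exact mul_left_cancel (h5.trans hX.symm)
  have p3 : ∀ X Y : Abelianization cover, X * X = 1 → X * (Y * (X * (Y * (X * Y)))) = 1 →
      Y * Y = 1 → Y = X := fun X Y hX h hY => by
    have h2 : (X * Y) ^ 2 = 1 := by rw [pow_two, mul_mul_mul_comm, hX, hY, one_mul]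
    have h3 : (X * Y) ^ (2 + 1) = 1 := by simpa [pow_succ, mul_assoc] using h
    rw [pow_succ, h2, one_mul] at h3
    exact mul_left_cancel (h3.trans hX.symm)
  have hB := p2 (Q 0) (Q 1) E1 E6 E2
  rw [hB] at E7 E8 E9 F2 F3
  have hC := p3 (Q 0) (Q 2) E1 E7 E3
  have hF := p3 (Q 0) (Q 5) E1 E8 E4
  have hG := p3 (Q 0) (Q 6) E1 E9 E5
  simp only [hC, hF, hG] at F1 F2 F3
  simp only [← mul_assoc, E1, one_mul] at F1 F2 F3
  have h3 : U ^ 3 = 1 := F2.symm
  rw [h3] at F1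
  rw [F1] at F3
  exact F3.symm

theorem stem : Cfsg.IsStemExtension proj := by
  refine ⟨proj_surjective, ?_, ?_⟩
  · rw [ker_proj, Subgroup.zpowers_le]; exact uC_center
  · rw [ker_proj, Subgroup.zpowers_le]; exact uC_mem_commutator

theorem ker_iso : Nonempty (proj.ker ≃* Multiplicative (ZMod 6)) := by
  haveI : IsCyclic (Subgroup.zpowers uC) := inferInstance
  refine ⟨(MulEquiv.subgroupCongr ker_proj).trans (mulEquivOfCyclicCardEq ?_)⟩
  rw [Nat.card_zpowers, Nat.card_congr Multiplicative.toAdd, Nat.card_zmod, ← order_uE,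
    ← Subgroup.orderOf_coe]
  rfl

theorem finite_cover : Finite cover := by
  haveI := finite_co0
  infer_instance

end

end Cfsg.Agent.SuzCover
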