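import Cfsg.Agent.SuzCover.Cover
import Cfsg.Agent.SuzCover.Mult.Bound

/-!
The Schur multiplier of the presented Suzuki group is cyclic of order six.
-/

set_option autoImplicit false

namespace Cfsg.Agent.SuzCover

/-- The multiplier. -/
theorem multiplier : Cfsg.HasCyclicSchurMultiplier Cfsg.Spor.Suz 6 := by
  have := finite_cover
  obtain ⟨e⟩ := ker_iso
  exact ProjExt.Stem.hasCyclicSchurMultiplier_of proj stem e fun Γ _ _ σ hσ => Mult.ker_cyclic σ hσ

end Cfsg.Agent.SuzCover
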