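import Cfsg.Agent.SuzCover.Gens

/-! Generated: checks of words. -/

set_option autoImplicit false
set_option Elab.async false
set_option maxRecDepth 100000

namespace Cfsg.Agent.SuzCover

theorem rel0 : isPow [0, 0] 0 = true := by decide +kernel

theorem rel3 : isPow [0, 3, 0, 3] 3 = true := by decide +kernel

theorem rel6 : isPow [0, 6, 0, 6] 0 = true := by decide +kernel

theorem rel9 : isPow [1, 3, 1, 3] 3 = true := by decide +kernel

theorem rel12 : isPow [1, 6, 1, 6, 1, 6] 0 = true := by decide +kernel

theorem rel15 : isPow [2, 4, 2, 4] 3 = true := by decide +kernel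

theorem rel18 : isPow [3, 3] 3 = true := by decide +kernel

theorem rel21 : isPow [3, 6, 3, 6] 3 = true := by decide +kernel

theorem rel24 : isPow [4, 6, 4, 6] 3 = true := by decide +kernel

theorem rel27 : isPow [6, 6] 0 = true := by decide +kernel

theorem rel30 : isPow [0, 1, 2, 5, 0, 1, 2, 5, 0, 1, 2, 5, 0, 1, 2, 5, 0, 1, 2, 5] 3 = true := by decide +kernel

theorem comm_ok : (gens.all fun x => sameB (scomp uGen x) (scomp x uGen)) = true := by decide +kernel

end Cfsg.Agent.SuzCover
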