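import Mathlib
import Cfsg.Agent.Leech.Generators
import Cfsg.Agent.Leech.OrbitCert
import Cfsg.Agent.Leech.PairsEight

/-! Automorphisms of the lattice given by integer matrices of eight times their entries. -/

set_option autoImplicit false

namespace Cfsg.Agent.SuzCover
open Cfsg Cfsg.Agent.Leech

/-- the scalar product of two lists -/
def dotL : List ℤ → List ℤ → ℤ
  | a :: r, b :: l => a * b + dotL r l
  | _, _ => 0

theorem dotL_eq : ∀ (n : ℕ) (r l : List ℤ), r.length = n → l.length = n →
    dotL r l = ∑ a ∈ Finset.range n, r.getD a 0 * l.getD a 0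
  | 0, r, l, hr, _ => by
    rw [List.length_eq_zero_iff.1 hr]
    simp [dotL]
  | n + 1, a :: r, b :: l, hr, hl => by
    rw [Finset.sum_range_succ', dotL, dotL_eq n r l (by simpa using hr) (by simpa using hl)]
    simp [add_comm]

theorem sum_pts (h : GolayPt → ℤ) : ∑ p, h p = ∑ a ∈ Finset.range 24, h (ptOf a) := by
  rw [univ_eq_range, Finset.sum_image fun a ha b hb e => by
    rw [← idx_ptOf a (Finset.mem_range.1 ha), ← idx_ptOf b (Finset.mem_range.1 hb), e]]

/-- the row of a point -/
def rowAt (A : List (List ℤ)) (p : GolayPt) : List ℤ := A.getD (idx p) []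

/-- eight times the image -/
def eightMap (A : List (List ℤ)) : (GolayPt → ℤ) →+ (GolayPt → ℤ) where
  toFun x p := ∑ q, (rowAt A p).getD (idx q) 0 * x q
  map_zero' := funext fun p => by simp
  map_add' x y := funext fun p => by simp [mul_add, Finset.sum_add_distrib]

theorem eightMap_apply (A : List (List ℤ)) (x : GolayPt → ℤ) (p : GolayPt) :
    eightMap A x p = ∑ q : GolayPt, (rowAt A p).getD (idx q) 0 * x q := rfl

theorem eightMap_single (A : List (List ℤ)) (p q : GolayPt) :
    eightMap A (Pi.single p 1) q = (rowAt A q).getD (idx p) 0 := by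
  rw [eightMap_apply, Finset.sum_eq_single p (fun r _ hr => by rw [Pi.single_eq_of_ne hr, mul_zero])
    (fun h => absurd (Finset.mem_univ p) h), Pi.single_eq_same, mul_one]

theorem dotInt_single (p : GolayPt) (y : GolayPt → ℤ) : dotInt (Pi.single p 1) y = y p := by
  rw [dotInt, Finset.sum_eq_single p (fun r _ hr => by rw [Pi.single_eq_of_ne hr, zero_mul])
    (fun h => absurd (Finset.mem_univ p) h), Pi.single_eq_same, one_mul]

/-- twenty-four rows of length twenty-four -/
def shapeB (A : List (List ℤ)) : Bool :=
  decide (A.length = 24) && A.all fun r => decide (r.length = 24)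

theorem row_length {A : List (List ℤ)} (hA : shapeB A = true) (p : GolayPt) :
    (rowAt A p).length = 24 := by
  simp only [shapeB, Bool.and_eq_true, decide_eq_true_eq, List.all_eq_true] at hA
  have hlt : idx p < A.length := hA.1 ▸ idx_lt p
  rw [rowAt, List.getD_eq_getElem _ _ hlt]
  exact hA.2 _ (List.getElem_mem hlt)

theorem eightMap_eq {A : List (List ℤ)} (hA : shapeB A = true) (x : GolayPt → ℤ) (p : GolayPt) :
    eightMap A x p = dotL (rowAt A p) (toL x) := by
  rw [eightMap_apply, dotL_eq 24 _ _ (row_length hA p) (by simp [toL]), sum_pts]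
  refine Finset.sum_congr rfl fun a ha => ?_
  rw [idx_ptOf a (Finset.mem_range.1 ha), toL_getD x a (Finset.mem_range.1 ha)]

/-- the xor of the rows selected by the pivot bits -/
def rebuild (w : ℕ) : ℕ :=
  (List.finRange 12).foldr (fun i acc => if w.testBit (idx (piv i)) then rowMask i ^^^ acc else acc) 0

theorem rowMask_mem : ∀ i : Fin 12, dec (bitWord (rowMask i)) = bitWord (rowMask i) := by
  decide +kernel

theorem single_lists : ∀ i : GolayPt,
    toL (Pi.single i 4 + Pi.single none 4) = ((List.range 24).map fun a =>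
      (if a = idx i then (4 : ℤ) else 0) + if a = 0 then 4 else 0) ∧
    toL (Pi.single i 4 - Pi.single none 4) = ((List.range 24).map fun a =>
      (if a = idx i then (4 : ℤ) else 0) - if a = 0 then 4 else 0) := by
  decide +kernel

theorem rebuild_mem (w : ℕ) : bitWord (rebuild w) ∈ golayCode := by
  unfold rebuild
  induction List.finRange 12 with
  | nil => simp [bitWord_zero]
  | cons i t ih =>
    simp only [List.foldr_cons]
    split_ifs
    · rw [bitWord_xor]
      exact add_mem ((mem_iff _).2 (rowMask_mem i)) ih
    · exact ih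

/-- the bits of the halved differences -/
def maskOf : List ℤ → ℤ → ℕ
  | [], _ => 0
  | a :: t, m => (((a - m) / 2) % 2).toNat + 2 * maskOf t m

theorem maskOf_bit : ∀ (l : List ℤ) (m : ℤ) (i : ℕ), i < l.length →
    (maskOf l m).testBit i = decide (((l.getD i 0 - m) / 2) % 2 = 1)
  | a :: t, m, 0, _ => by
    simp only [maskOf, Nat.testBit_zero, List.getD_cons_zero]
    rcases Int.emod_two_eq_zero_or_one ((a - m) / 2) with h | h <;> simp [h]
  | a :: t, m, i + 1, hi => by
    simp only [maskOf, List.getD_cons_succ, Nat.testBit_succ]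
    rw [← maskOf_bit t m i (by simpa using hi)]
    congr 1
    rcases Int.emod_two_eq_zero_or_one ((a - m) / 2) with h | h <;> simp [h] <;> omega

/-- the membership test for a list -/
def latB (l : List ℤ) : Bool :=
  decide (l.length = 24) && (l.all fun a => decide ((a - l.headD 0) % 2 = 0)) &&
    decide ((l.sum - 4 * l.headD 0) % 8 = 0) &&
      Nat.beq (rebuild (maskOf l (l.headD 0))) (maskOf l (l.headD 0))

theorem latB_mem {l : List ℤ} (h : latB l = true) : ofL l ∈ leechLattice := by
  simp only [latB, Bool.and_eq_true, decide_eq_true_eq, List.all_eq_true] at h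
  obtain ⟨⟨⟨hl, hp⟩, hs⟩, hm⟩ := h
  set m := l.headD 0
  refine mem_lattice_iff.2 ⟨m, fun p => (ofL l p - m) / 2, fun p => ?_, ?_, ?_⟩
  · have := hp (ofL l p) (by
      rw [ofL, List.getD_eq_getElem _ _ (hl ▸ idx_lt p)]; exact List.getElem_mem _)
    show ofL l p = m + 2 * ((ofL l p - m) / 2)
    omega
  · have e : ∑ p, ofL l p = l.sum := by
      rw [sum_pts]
      have : ∀ (l : List ℤ), l.sum = ∑ a ∈ Finset.range l.length, l.getD a 0 := by
        intro l
        induction l with
        | nil => simp
        | cons a t ih => rw [List.length_cons, Finset.sum_range_succ']; simp [ih, add_comm]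
      rw [this l, hl]
      exact Finset.sum_congr rfl fun a ha => by rw [ofL, idx_ptOf a (Finset.mem_range.1 ha)]
    rw [e]
    exact Int.dvd_of_emod_eq_zero hs
  · have e : red2 (fun p => (ofL l p - m) / 2) = bitWord (rebuild (maskOf l m)) := by
      rw [Nat.eq_of_beq_eq_true hm]
      funext p
      simp only [red2, bitWord, maskOf_bit l m (idx p) (hl ▸ idx_lt p), decide_eq_true_eq, ofL]
      generalize (l.getD (idx p) 0 - m) / 2 = a
      split_ifs with h
      · have h2 := ZMod.intCast_eq_intCast_iff' a 1 2
        rw [Nat.cast_ofNat, Int.cast_one] at h2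
        exact h2.2 (by omega)
      · exact (ZMod.intCast_zmod_eq_zero_iff_dvd a 2).2 (by omega)
    rw [e]
    exact rebuild_mem _

/-- the image of a list is in the lattice -/
def imgB (A : List (List ℤ)) (x : List ℤ) : Bool :=
  (A.all fun r => decide (dotL r x % 8 = 0)) && latB (A.map fun r => dotL r x / 8)

/-- the images of the lattice generators -/
def gensB (A : List (List ℤ)) : Bool :=
  imgB A ((List.range 24).map fun a => if a = 0 then -3 else 1) &&
    ((List.range 24).all fun i => decide (i = 0) ||
      (imgB A ((List.range 24).map fun a => (if a = i then 4 else 0) + if a = 0 then 4 else 0) &&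
        imgB A ((List.range 24).map fun a => (if a = i then 4 else 0) - if a = 0 then 4 else 0))) &&
    (List.finRange 12).all fun i =>
      imgB A ((List.range 24).map fun a => if (rowMask i).testBit a then 2 else 0)

/-- the vectors with an image in the lattice -/
def mappedSub (A : List (List ℤ)) : AddSubgroup (GolayPt → ℤ) :=
  (leechLattice.map ((8 : ℤ) • AddMonoidHom.id (GolayPt → ℤ))).comap (eightMap A)

theorem mem_mapped {A : List (List ℤ)} (hA : shapeB A = true) {x : GolayPt → ℤ} {l : List ℤ}
    (hl : toL x = l) (h : imgB A l = true) : x ∈ mappedSub A := by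
  simp only [imgB, Bool.and_eq_true, List.all_eq_true, decide_eq_true_eq] at h
  refine ⟨ofL (A.map fun r => dotL r l / 8), latB_mem h.2, funext fun p => ?_⟩
  have hlt : idx p < A.length := by
    simp only [shapeB, Bool.and_eq_true, decide_eq_true_eq] at hA
    exact hA.1 ▸ idx_lt p
  show (8 : ℤ) * (A.map fun r => dotL r l / 8).getD (idx p) 0 = eightMap A x p
  rw [eightMap_eq hA, hl, rowAt, List.getD_eq_getElem _ _ (by simpa using hlt),
    List.getD_eq_getElem _ _ hlt, List.getElem_map]
  exact Int.mul_ediv_cancel' (Int.dvd_of_emod_eq_zero (h.1 _ (List.getElem_mem hlt)))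

theorem leech_le_mapped {A : List (List ℤ)} (hA : shapeB A = true) (h : gensB A = true) :
    leechLattice ≤ mappedSub A := by
  simp only [gensB, Bool.and_eq_true, List.all_eq_true, Bool.or_eq_true, decide_eq_true_eq,
    List.mem_range] at h
  refine lattice_le _ (mem_mapped hA (by decide +kernel) h.1.1) (fun i hi => ?_) (Set.range row)
    (fun c hc => ?_) ?_ ?_
  · have hne : idx i ≠ 0 := fun e => hi (by rw [← ptOf_idx i, e]; rfl)
    obtain ⟨h1, h2⟩ := (h.1.2 (idx i) (idx_lt i)).resolve_left hne
    exact ⟨mem_mapped hA (single_lists i).1 h1, mem_mapped hA (single_lists i).2 h2⟩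
  · rw [← (mem_iff c).1 hc, dec_eq]
    exact Submodule.sum_mem _ fun i _ => Submodule.smul_mem _ _ (Submodule.subset_span ⟨i, rfl⟩)
  · rintro _ ⟨i, rfl⟩
    exact (mem_iff _).2 (by revert i; decide +kernel)
  · rintro _ ⟨i, rfl⟩
    exact mem_mapped hA (by revert i; decide +kernel) (h.2 i (List.mem_finRange i))

/-- the transposed matrix -/
def trans (A : List (List ℤ)) : List (List ℤ) :=
  (List.range 24).map fun j => A.map fun r => r.getD j 0

/-- the columns are orthogonal of norm 64 -/
def orthB (A : List (List ℤ)) : Bool :=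
  (List.range 24).all fun i => (List.range 24).all fun j =>
    decide (dotL ((trans A).getD i []) ((trans A).getD j []) = if i = j then 64 else 0)

/-- everything needed for an automorphism -/
def goodB (A : List (List ℤ)) : Bool :=
  shapeB A && gensB A && gensB (trans A) && orthB A && orthB (trans A)

theorem trans_shape {A : List (List ℤ)} (hA : shapeB A = true) : shapeB (trans A) = true := by
  simp only [shapeB, Bool.and_eq_true, decide_eq_true_eq, List.all_eq_true] at hA ⊢
  exact ⟨by simp [trans], fun r hr => by
    obtain ⟨j, -, rfl⟩ := List.mem_map.1 hr; simp [hA.1]⟩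

theorem trans_entry {A : List (List ℤ)} (hA : shapeB A = true) (p q : GolayPt) :
    (rowAt (trans A) q).getD (idx p) 0 = (rowAt A p).getD (idx q) 0 := by
  simp only [shapeB, Bool.and_eq_true, decide_eq_true_eq] at hA
  have hp : idx p < A.length := hA.1 ▸ idx_lt p
  simp [rowAt, trans, List.getD_eq_getElem?_getD, hp, idx_lt q]

theorem eightMap_orth {A : List (List ℤ)} (hA : shapeB A = true) (ho : orthB A = true)
    (x y : GolayPt → ℤ) : dotInt (eightMap A x) (eightMap A y) = 64 * dotInt x y := by
  simp only [orthB, List.all_eq_true, List.mem_range, decide_eq_true_eq] at ho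
  have key : ∀ q r : GolayPt, ∑ p, (rowAt A p).getD (idx q) 0 * (rowAt A p).getD (idx r) 0 =
      if q = r then 64 else 0 := fun q r => by
    have h := ho (idx q) (idx_lt q) (idx r) (idx_lt r)
    have hT := trans_shape hA
    rw [show (trans A).getD (idx q) [] = rowAt (trans A) q from rfl,
      show (trans A).getD (idx r) [] = rowAt (trans A) r from rfl,
      dotL_eq 24 _ _ (row_length hT q) (row_length hT r)] at h
    rw [sum_pts]
    refine (Finset.sum_congr rfl fun a ha => ?_).trans
      (h.trans (if_congr ⟨fun e => by rw [← ptOf_idx q, e, ptOf_idx], fun e => by rw [e]⟩ rfl rfl))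
    conv_rhs => rw [← idx_ptOf a (Finset.mem_range.1 ha), trans_entry hA, trans_entry hA]
  rw [dotInt]
  simp only [eightMap_apply, Finset.sum_mul_sum]
  rw [Finset.sum_comm, dotInt, Finset.mul_sum]
  refine Finset.sum_congr rfl fun q _ => ?_
  rw [Finset.sum_comm, Finset.sum_eq_single q]
  · rw [Finset.sum_congr rfl fun p _ => mul_mul_mul_comm _ (x q) _ (y q), ← Finset.sum_mul, key,
      if_pos rfl]
  · intro r _ hr
    rw [Finset.sum_congr rfl fun p _ => mul_mul_mul_comm _ (x q) _ (y r), ← Finset.sum_mul, key,
      if_neg fun e => hr e.symm, zero_mul]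
  · simp

variable {A : List (List ℤ)} (h : goodB A = true)

theorem exists_image {B : List (List ℤ)} (hs : shapeB B = true) (hg : gensB B = true)
    (v : leechLattice) : ∃ w : leechLattice, ∀ p, 8 * (w : GolayPt → ℤ) p =
      eightMap B (v : GolayPt → ℤ) p := by
  obtain ⟨w, hw, e⟩ := leech_le_mapped hs hg v.2
  exact ⟨⟨w, hw⟩, fun p => congrFun e p⟩

include h in
theorem good_iff : shapeB A = true ∧ gensB A = true ∧ gensB (trans A) = true ∧ orthB A = true ∧
    orthB (trans A) = true := by
  simpa [goodB, Bool.and_eq_true, and_assoc] using h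

/-- the image of a lattice vector -/
def apV (v : leechLattice) : leechLattice :=
  ⟨fun p => eightMap A (v : GolayPt → ℤ) p / 8, by
    obtain ⟨hs, hg, -⟩ := good_iff h
    obtain ⟨w, hw⟩ := exists_image hs hg v
    convert w.2 using 1
    funext p
    rw [← hw p]; omega⟩

theorem apV_spec (v : leechLattice) (p : GolayPt) :
    8 * (apV h v : GolayPt → ℤ) p = eightMap A (v : GolayPt → ℤ) p := by
  obtain ⟨hs, hg, -⟩ := good_iff h
  obtain ⟨w, hw⟩ := exists_image hs hg v
  show 8 * (eightMap A (v : GolayPt → ℤ) p / 8) = _
  rw [← hw p]; omega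

include h in
theorem trans_good : goodB (trans A) = true := by
  obtain ⟨hs, hg, hg', ho, ho'⟩ := good_iff h
  have e : trans (trans A) = A := by
    have hT := trans_shape hs
    have hs' := hs
    simp only [shapeB, Bool.and_eq_true, decide_eq_true_eq, List.all_eq_true] at hs'
    refine List.ext_getElem (by simp [trans, hs'.1]) fun i h1 h2 => ?_
    refine List.ext_getElem (by simp [trans, hs'.2 _ (List.getElem_mem h2)]) fun j h3 h4 => ?_
    simp [trans, List.getD_eq_getElem?_getD, h2, h4]
  simp [goodB, trans_shape hs, e, hg, hg', ho, ho']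

theorem apV_trans (v : leechLattice) : apV h (apV (trans_good h) v) = v := by
  obtain ⟨hs, -, -, -, ho'⟩ := good_iff h
  refine Subtype.ext (funext fun p => ?_)
  have h1 := apV_spec h (apV (trans_good h) v) p
  have h2 : eightMap A (eightMap (trans A) (v : GolayPt → ℤ)) p = 64 * (v : GolayPt → ℤ) p := by
    have := eightMap_orth (trans_shape hs) ho' (Pi.single p 1) (v : GolayPt → ℤ)
    rw [dotInt_single, dotInt] at this
    rw [eightMap_apply, ← this]
    exact Finset.sum_congr rfl fun q _ => by rw [eightMap_single, trans_entry hs]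
  have h3 : eightMap A (eightMap (trans A) (v : GolayPt → ℤ)) p =
      8 * eightMap A (apV (trans_good h) v : GolayPt → ℤ) p := by
    rw [eightMap_apply, eightMap_apply, Finset.mul_sum]
    exact Finset.sum_congr rfl fun q _ => by rw [← apV_spec (trans_good h) v q, mul_left_comm]
  omega

theorem apV_left (v : leechLattice) : apV (trans_good h) (apV h v) = v := by
  obtain ⟨hs, -, -, ho, -⟩ := good_iff h
  refine Subtype.ext (funext fun p => ?_)
  have h1 := apV_spec (trans_good h) (apV h v) p
  have h2 : eightMap (trans A) (eightMap A (v : GolayPt → ℤ)) p = 64 * (v : GolayPt → ℤ) p := by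
    have := eightMap_orth hs ho (Pi.single p 1) (v : GolayPt → ℤ)
    rw [dotInt_single, dotInt] at this
    rw [eightMap_apply, ← this]
    exact Finset.sum_congr rfl fun q _ => by rw [eightMap_single, ← trans_entry hs]
  have h3 : eightMap (trans A) (eightMap A (v : GolayPt → ℤ)) p =
      8 * eightMap (trans A) (apV h v : GolayPt → ℤ) p := by
    rw [eightMap_apply, eightMap_apply, Finset.mul_sum]
    exact Finset.sum_congr rfl fun q _ => by rw [← apV_spec h v q, mul_left_comm]
  omega

/-- the element of a matrix with its list action -/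
def matGen : LGen where
  g := ⟨⟨apV h, apV (trans_good h), apV_left h, apV_trans h⟩, fun v w => by
    refine Subtype.ext (funext fun p => ?_)
    have h1 := apV_spec h (v + w) p
    have h2 := apV_spec h v p
    have h3 := apV_spec h w p
    rw [AddSubgroup.coe_add, map_add, Pi.add_apply] at h1
    show (apV h (v + w) : GolayPt → ℤ) p = (apV h v : GolayPt → ℤ) p + (apV h w : GolayPt → ℤ) p
    omega, fun v => by
    obtain ⟨hs, -, -, ho, -⟩ := good_iff h
    have := eightMap_orth hs ho (v : GolayPt → ℤ) (v : GolayPt → ℤ)
    simp only [dotInt, ← apV_spec h v] at this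
    show sqNorm (apV h v : GolayPt → ℤ) = sqNorm (v : GolayPt → ℤ)
    simp only [sqNorm, pow_two]
    rw [Finset.sum_congr rfl fun i _ => mul_mul_mul_comm 8 _ 8 _, ← Finset.mul_sum] at this
    omega⟩
  f l := A.map fun r => dotL r l / 8
  spec v := by
    obtain ⟨hs, -⟩ := good_iff h
    have hs' := hs
    simp only [shapeB, Bool.and_eq_true, decide_eq_true_eq] at hs'
    refine List.ext_getElem (by simp [toL, hs'.1]) fun a h1 h2 => ?_
    have ha : a < 24 := by simpa [toL] using h1
    simp only [toL, List.getElem_map, List.getElem_range]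
    show eightMap A (v : GolayPt → ℤ) (ptOf a) / 8 = _
    rw [eightMap_eq hs, rowAt, idx_ptOf a ha, List.getD_eq_getElem _ _ (hs'.1 ▸ ha)]
    rfl

end Cfsg.Agent.SuzCover
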