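import Mathlib
import Cfsg.Agent.SuzCover.MatGen

/-! Eight times the matrices of seven automorphisms of the lattice and of a fixed-point-free
element of order three commuting with them. -/

set_option autoImplicit false
set_option maxRecDepth 100000

namespace Cfsg.Agent.SuzCover

/-- eight times a matrix -/
def mat_a : List (List ℤ) := [
  [4, -2, -2, -2, 0, -2, 0, 0, 4, 0, 0, 0, -2, 0, 0, 0, 2, 0, -2, 0, 0, 0, 2, 0],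
  [-2, 0, 0, 0, -2, 0, 2, -2, 2, 2, 2, -2, 0, -2, -2, -2, 0, -2, 0, -2, -2, 2, 0, 2],
  [-2, 0, 0, 0, 2, 0, 2, -2, 2, 2, -2, -2, 0, 2, 2, 2, 0, 2, 0, 2, -2, -2, 0, 2],
  [-2, 0, 0, 0, -2, 0, -2, -2, 2, -2, -2, 2, 0, 2, -2, 2, 0, 2, 0, -2, -2, 2, 0, -2],
  [0, -2, 2, -2, 4, 2, 0, 0, 0, 0, 0, 0, -2, 0, -4, 0, 2, 0, 2, 0, 0, 0, -2, 0],
  [-2, 0, 0, 0, 2, 0, 2, 2, 2, 2, -2, 2, 0, -2, 2, 2, 0, -2, 0, -2, 2, 2, 0, -2],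
  [0, 2, 2, -2, 0, 2, 4, 0, 0, -4, 0, 0, -2, 0, 0, 0, -2, 0, -2, 0, 0, 0, 2, 0],
  [0, -2, -2, -2, 0, 2, 0, 4, 0, 0, 0, 0, 2, 0, 0, 0, -2, 0, 2, 0, -4, 0, 2, 0],
  [4, 2, 2, 2, 0, 2, 0, 0, 4, 0, 0, 0, 2, 0, 0, 0, -2, 0, 2, 0, 0, 0, -2, 0],
  [0, 2, 2, -2, 0, 2, -4, 0, 0, 4, 0, 0, -2, 0, 0, 0, -2, 0, -2, 0, 0, 0, 2, 0],
  [0, 2, -2, -2, 0, -2, 0, 0, 0, 0, 4, 0, -2, 0, 0, 4, -2, 0, 2, 0, 0, 0, -2, 0],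
  [0, -2, -2, 2, 0, 2, 0, 0, 0, 0, 0, 4, -2, 0, 0, 0, -2, 0, -2, 0, 0, 0, -2, 4],
  [-2, 0, 0, 0, -2, 0, -2, 2, 2, -2, -2, -2, 0, -2, -2, 2, 0, -2, 0, 2, 2, -2, 0, 2],
  [0, -2, 2, 2, 0, -2, 0, 0, 0, 0, 0, 0, -2, 4, 0, 0, -2, -4, 2, 0, 0, 0, 2, 0],
  [0, -2, 2, -2, -4, 2, 0, 0, 0, 0, 0, 0, -2, 0, 4, 0, 2, 0, 2, 0, 0, 0, -2, 0],
  [0, -2, 2, 2, 0, 2, 0, 0, 0, 0, 4, 0, 2, 0, 0, 4, 2, 0, -2, 0, 0, 0, 2, 0],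
  [2, 0, 0, 0, 2, 0, -2, -2, -2, -2, -2, -2, 0, -2, 2, 2, 0, -2, 0, -2, -2, 2, 0, 2],
  [0, -2, 2, 2, 0, -2, 0, 0, 0, 0, 0, 0, -2, -4, 0, 0, -2, 4, 2, 0, 0, 0, 2, 0],
  [-2, 0, 0, 0, 2, 0, -2, 2, 2, -2, 2, -2, 0, 2, 2, -2, 0, 2, 0, -2, 2, 2, 0, 2],
  [0, -2, 2, -2, 0, -2, 0, 0, 0, 0, 0, 0, 2, 0, 0, 0, -2, 0, -2, 4, 0, 4, -2, 0],
  [0, -2, -2, -2, 0, 2, 0, -4, 0, 0, 0, 0, 2, 0, 0, 0, -2, 0, 2, 0, 4, 0, 2, 0],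
  [0, 2, -2, 2, 0, 2, 0, 0, 0, 0, 0, 0, -2, 0, 0, 0, 2, 0, 2, 4, 0, 4, 2, 0],
  [2, 0, 0, 0, -2, 0, 2, 2, -2, 2, -2, -2, 0, 2, -2, 2, 0, 2, 0, -2, 2, 2, 0, 2],
  [0, 2, 2, -2, 0, -2, 0, 0, 0, 0, 0, 4, 2, 0, 0, 0, 2, 0, 2, 0, 0, 0, 2, 4]]

theorem good_a : goodB mat_a = true := by decide +kernel

/-- eight times a matrix -/
def mat_b : List (List ℤ) := [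
  [4, -4, 0, 0, -4, 0, 4, 0, 0, 0, 0, 0, 0, 0, 0, 0, 0, 0, 0, 0, 0, 0, 0, 0],
  [-4, 4, 0, 0, -4, 0, 4, 0, 0, 0, 0, 0, 0, 0, 0, 0, 0, 0, 0, 0, 0, 0, 0, 0],
  [0, 0, -4, -4, 0, 0, 0, 0, 0, 0, 0, 0, 0, 0, 0, 4, 0, 0, 4, 0, 0, 0, 0, 0],
  [0, 0, -4, -4, 0, 0, 0, 0, 0, 0, 0, 0, 0, 0, 0, -4, 0, 0, -4, 0, 0, 0, 0, 0],
  [-4, -4, 0, 0, 4, 0, 4, 0, 0, 0, 0, 0, 0, 0, 0, 0, 0, 0, 0, 0, 0, 0, 0, 0],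
  [0, 0, 0, 0, 0, 4, 0, 0, 0, 0, 0, 0, 0, 4, -4, 0, 0, 0, 0, -4, 0, 0, 0, 0],
  [4, 4, 0, 0, 4, 0, 4, 0, 0, 0, 0, 0, 0, 0, 0, 0, 0, 0, 0, 0, 0, 0, 0, 0],
  [0, 0, 0, 0, 0, 0, 0, 4, 0, 0, 4, 0, 0, 0, 0, 0, 4, 0, 0, 0, 4, 0, 0, 0],
  [0, 0, 0, 0, 0, 0, 0, 0, 4, 0, 0, -4, 0, 0, 0, 0, 0, 0, 0, 0, 0, 4, -4, 0],
  [0, 0, 0, 0, 0, 0, 0, 0, 0, 4, 0, 0, -4, 0, 0, 0, 0, 4, 0, 0, 0, 0, 0, -4],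
  [0, 0, 0, 0, 0, 0, 0, 4, 0, 0, 4, 0, 0, 0, 0, 0, -4, 0, 0, 0, -4, 0, 0, 0],
  [0, 0, 0, 0, 0, 0, 0, 0, -4, 0, 0, 4, 0, 0, 0, 0, 0, 0, 0, 0, 0, 4, -4, 0],
  [0, 0, 0, 0, 0, 0, 0, 0, 0, -4, 0, 0, 4, 0, 0, 0, 0, 4, 0, 0, 0, 0, 0, -4],
  [0, 0, 0, 0, 0, 4, 0, 0, 0, 0, 0, 0, 0, 4, 4, 0, 0, 0, 0, 4, 0, 0, 0, 0],
  [0, 0, 0, 0, 0, -4, 0, 0, 0, 0, 0, 0, 0, 4, 4, 0, 0, 0, 0, -4, 0, 0, 0, 0],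
  [0, 0, 4, -4, 0, 0, 0, 0, 0, 0, 0, 0, 0, 0, 0, -4, 0, 0, 4, 0, 0, 0, 0, 0],
  [0, 0, 0, 0, 0, 0, 0, 4, 0, 0, -4, 0, 0, 0, 0, 0, 4, 0, 0, 0, -4, 0, 0, 0],
  [0, 0, 0, 0, 0, 0, 0, 0, 0, 4, 0, 0, 4, 0, 0, 0, 0, 4, 0, 0, 0, 0, 0, 4],
  [0, 0, 4, -4, 0, 0, 0, 0, 0, 0, 0, 0, 0, 0, 0, 4, 0, 0, -4, 0, 0, 0, 0, 0],
  [0, 0, 0, 0, 0, -4, 0, 0, 0, 0, 0, 0, 0, 4, -4, 0, 0, 0, 0, 4, 0, 0, 0, 0],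
  [0, 0, 0, 0, 0, 0, 0, 4, 0, 0, -4, 0, 0, 0, 0, 0, -4, 0, 0, 0, 4, 0, 0, 0],
  [0, 0, 0, 0, 0, 0, 0, 0, 4, 0, 0, 4, 0, 0, 0, 0, 0, 0, 0, 0, 0, 4, 4, 0],
  [0, 0, 0, 0, 0, 0, 0, 0, -4, 0, 0, -4, 0, 0, 0, 0, 0, 0, 0, 0, 0, 4, 4, 0],
  [0, 0, 0, 0, 0, 0, 0, 0, 0, -4, 0, 0, -4, 0, 0, 0, 0, 4, 0, 0, 0, 0, 0, 4]]

theorem good_b : goodB mat_b = true := by decide +kernel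

/-- eight times a matrix -/
def mat_c : List (List ℤ) := [
  [0, 2, 2, 2, -2, 2, 0, 0, -2, 2, 0, 0, 2, 0, 0, 2, -2, 2, 2, -2, 2, 0, 2, 2],
  [2, 4, 0, 0, 4, 0, -2, 2, 0, 0, -2, 2, 0, 2, -2, 0, 0, 0, 0, 0, 0, -2, 0, 0],
  [2, 0, 4, 0, 0, 0, 2, 2, 0, -4, 2, 2, 0, -2, -2, 0, 0, 0, 0, 0, 0, 2, 0, 0],
  [2, 0, 0, 4, 0, 0, 2, 2, 0, 0, 2, -2, 0, 2, 2, 0, 0, -4, 0, 0, 0, -2, 0, 0],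
  [-2, 4, 0, 0, 4, 0, 2, -2, 0, 0, 2, -2, 0, -2, 2, 0, 0, 0, 0, 0, 0, 2, 0, 0],
  [2, 0, 0, 0, 0, 4, -2, -2, 0, 0, 2, -2, 0, 2, -2, 0, 0, 0, 0, 4, 0, 2, 0, 0],
  [0, -2, 2, 2, 2, -2, 0, 0, 2, 2, 0, 0, 2, 0, 0, 2, 2, 2, 2, 2, -2, 0, -2, 2],
  [0, 2, 2, 2, -2, -2, 0, 0, 2, 2, 0, 0, -2, 0, 0, -2, -2, 2, -2, 2, 2, 0, -2, -2],
  [-2, 0, 0, 0, 0, 0, 2, 2, 4, 0, -2, -2, 0, 2, -2, 0, 0, 0, 0, 0, 0, 2, 4, 0],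
  [2, 0, -4, 0, 0, 0, 2, 2, 0, 4, 2, 2, 0, -2, -2, 0, 0, 0, 0, 0, 0, 2, 0, 0],
  [0, -2, 2, 2, 2, 2, 0, 0, -2, 2, 0, 0, -2, 0, 0, -2, 2, 2, -2, -2, -2, 0, 2, -2],
  [0, 2, 2, -2, -2, -2, 0, 0, -2, 2, 0, 0, 2, 0, 0, 2, 2, -2, -2, 2, -2, 0, 2, -2],
  [2, 0, 0, 0, 0, 0, 2, -2, 0, 0, -2, 2, 4, 2, 2, -4, 0, 0, 0, 0, 0, 2, 0, 0],
  [0, 2, -2, 2, -2, 2, 0, 0, 2, -2, 0, 0, 2, 0, 0, 2, 2, 2, -2, -2, -2, 0, -2, -2],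
  [0, -2, -2, 2, 2, -2, 0, 0, -2, -2, 0, 0, 2, 0, 0, 2, -2, 2, -2, 2, 2, 0, 2, -2],
  [2, 0, 0, 0, 0, 0, 2, -2, 0, 0, -2, 2, -4, 2, 2, 4, 0, 0, 0, 0, 0, 2, 0, 0],
  [-2, 0, 0, 0, 0, 0, 2, -2, 0, 0, 2, 2, 0, 2, -2, 0, 4, 0, 0, 0, 4, -2, 0, 0],
  [2, 0, 0, -4, 0, 0, 2, 2, 0, 0, 2, -2, 0, 2, 2, 0, 0, 4, 0, 0, 0, -2, 0, 0],
  [2, 0, 0, 0, 0, 0, 2, -2, 0, 0, -2, -2, 0, -2, -2, 0, 0, 0, 4, 0, 0, -2, 0, -4],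
  [-2, 0, 0, 0, 0, 4, 2, 2, 0, 0, -2, 2, 0, -2, 2, 0, 0, 0, 0, 4, 0, -2, 0, 0],
  [2, 0, 0, 0, 0, 0, -2, 2, 0, 0, -2, -2, 0, -2, 2, 0, 4, 0, 0, 0, 4, 2, 0, 0],
  [0, -2, 2, -2, 2, 2, 0, 0, 2, 2, 0, 0, 2, 0, 0, 2, -2, -2, -2, -2, 2, 0, -2, -2],
  [2, 0, 0, 0, 0, 0, -2, -2, 4, 0, 2, 2, 0, -2, 2, 0, 0, 0, 0, 0, 0, -2, 4, 0],
  [2, 0, 0, 0, 0, 0, 2, -2, 0, 0, -2, -2, 0, -2, -2, 0, 0, 0, -4, 0, 0, -2, 0, 4]]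

theorem good_c : goodB mat_c = true := by decide +kernel

/-- eight times a matrix -/
def mat_d : List (List ℤ) := [
  [0, 0, -2, 2, 0, -2, 0, 2, 0, -2, 2, 0, 2, -2, -2, 2, 2, -2, 2, 2, -2, 0, 0, -2],
  [0, 0, -2, 2, 0, -2, 0, -2, 0, 2, -2, 0, -2, -2, -2, 2, -2, 2, 2, 2, 2, 0, 0, 2],
  [2, 2, 0, 0, 2, 0, -2, 0, 2, 0, 0, 2, 0, -4, 4, 0, 0, 0, 0, 0, 0, -2, 2, 0],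
  [-2, -2, 0, 0, -2, 4, 2, 0, 2, 0, 0, 2, 0, 0, 0, 0, 0, 0, 0, 4, 0, -2, 2, 0],
  [0, 0, -2, 2, 0, 2, 0, 2, 0, 2, 2, 0, -2, 2, 2, 2, 2, 2, 2, -2, -2, 0, 0, 2],
  [2, 2, 0, -4, -2, 0, 2, 0, -2, 0, 0, 2, 0, 0, 0, 0, 0, 0, 4, 0, 0, 2, 2, 0],
  [0, 0, 2, -2, 0, -2, 0, 2, 0, 2, 2, 0, -2, -2, -2, -2, 2, 2, -2, 2, -2, 0, 0, 2],
  [-2, 2, 0, 0, -2, 0, -2, 0, -2, 0, 0, -2, 0, 0, 0, 0, 0, -4, 0, 0, 0, -2, 2, 4],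
  [0, 0, -2, -2, 0, 2, 0, 2, 0, -2, 2, 0, 2, -2, -2, 2, -2, 2, -2, -2, 2, 0, 0, 2],
  [2, -2, 0, 0, -2, 0, -2, 0, 2, 0, 0, -2, 0, 0, 0, 0, 4, 0, 0, 0, 4, 2, 2, 0],
  [-2, 2, 0, 0, -2, 0, -2, 0, -2, 0, 0, -2, 0, 0, 0, 0, 0, 4, 0, 0, 0, -2, 2, -4],
  [0, 0, -2, -2, 0, -2, 0, 2, 0, 2, 2, 0, -2, 2, 2, 2, -2, -2, -2, 2, 2, 0, 0, -2],
  [-2, 2, 0, 0, 2, 0, 2, 0, -2, 0, 0, 2, 0, 0, 0, 0, 4, 0, 0, 0, 4, -2, -2, 0],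
  [2, 2, 4, 0, -2, 0, 2, 0, 2, 0, 0, -2, 0, 0, 0, 4, 0, 0, 0, 0, 0, -2, -2, 0],
  [2, 2, -4, 0, -2, 0, 2, 0, 2, 0, 0, -2, 0, 0, 0, -4, 0, 0, 0, 0, 0, -2, -2, 0],
  [-2, -2, 0, 0, -2, 0, 2, 0, -2, 0, 0, -2, 0, -4, 4, 0, 0, 0, 0, 0, 0, 2, -2, 0],
  [-2, 2, 0, 0, -2, 0, -2, 0, 2, -4, 0, 2, -4, 0, 0, 0, 0, 0, 0, 0, 0, 2, -2, 0],
  [2, -2, 0, 0, -2, 0, -2, 4, -2, 0, -4, 2, 0, 0, 0, 0, 0, 0, 0, 0, 0, -2, -2, 0],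
  [-2, -2, 0, 0, -2, -4, 2, 0, 2, 0, 0, 2, 0, 0, 0, 0, 0, 0, 0, -4, 0, -2, 2, 0],
  [-2, -2, 0, -4, 2, 0, -2, 0, 2, 0, 0, -2, 0, 0, 0, 0, 0, 0, 4, 0, 0, -2, -2, 0],
  [2, -2, 0, 0, 2, 0, 2, 0, -2, -4, 0, -2, -4, 0, 0, 0, 0, 0, 0, 0, 0, -2, 2, 0],
  [0, 0, 2, 2, 0, -2, 0, 2, 0, -2, 2, 0, 2, 2, 2, -2, -2, 2, 2, 2, 2, 0, 0, 2],
  [0, 0, -2, -2, 0, -2, 0, -2, 0, -2, -2, 0, 2, 2, 2, 2, 2, 2, -2, 2, -2, 0, 0, 2],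
  [2, -2, 0, 0, -2, 0, -2, -4, -2, 0, 4, 2, 0, 0, 0, 0, 0, 0, 0, 0, 0, -2, -2, 0]]

theorem good_d : goodB mat_d = true := by decide +kernel

/-- eight times a matrix -/
def mat_e : List (List ℤ) := [
  [0, 0, -2, 2, -2, 0, -2, 2, 0, -2, 2, 4, 2, -2, 0, 0, 2, 0, 0, 2, 2, 0, 0, 0],
  [0, 0, -2, 2, 2, 0, 2, -2, 0, 2, -2, 0, -2, -2, 0, 0, 2, 0, 0, 2, 2, 0, 4, 0],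
  [2, 2, 0, -4, 0, -2, 0, 0, 2, 0, 0, 2, 0, 0, 2, -2, 0, 2, -2, 0, 0, -2, 2, -2],
  [-2, -2, 4, 0, 0, 2, 0, 0, 2, 0, 0, 2, 0, 0, -2, -2, 0, -2, -2, 0, 0, -2, 2, 2],
  [2, -2, 0, 0, 0, 2, 0, 0, 2, 0, 4, -2, 0, 0, 2, 2, 0, 2, 2, 0, 0, -2, 2, 2],
  [0, 0, 2, -2, -2, 0, 2, 2, 0, -2, -2, 0, -2, 2, 0, 0, 2, 0, 4, 2, 2, 0, 0, 0],
  [2, -2, 0, 0, 0, -2, 0, 4, -2, 0, 0, -2, 0, 0, -2, -2, 0, 2, -2, 0, 0, 2, 2, 2],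
  [-2, 2, 0, 0, 0, -2, -4, 0, 2, 0, 0, -2, 0, 0, 2, -2, 0, -2, 2, 0, 0, 2, 2, 2],
  [0, 0, -2, -2, -2, 0, 2, -2, 0, -2, -2, 0, 2, -2, 0, 0, -2, 0, 0, -2, 2, 0, 0, 4],
  [2, -2, 0, 0, 0, 2, 0, 0, 2, 0, 0, -2, 0, 0, 2, -2, 0, -2, -2, 0, 4, 2, -2, -2],
  [-2, 2, 0, 0, -4, 2, 0, 0, 2, 0, 0, -2, 0, 0, -2, 2, 0, 2, -2, 0, 0, 2, 2, -2],
  [-4, 0, -2, -2, 2, 0, 2, 2, 0, 2, 2, 0, 2, 2, 0, 0, -2, 0, 0, 2, 2, 0, 0, 0],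
  [-2, 2, 0, 0, 0, 2, 0, 0, -2, 0, 0, -2, 0, 0, 2, -2, 4, 2, -2, 0, 0, -2, -2, 2],
  [2, 2, 0, 0, 0, -2, 0, 0, 2, 0, 0, -2, 0, 0, -2, 2, 0, -2, -2, 4, 0, -2, -2, 2],
  [0, 0, -2, 2, -2, 0, 2, -2, 0, -2, 2, 0, -2, 2, 0, -4, -2, 0, 0, 2, -2, 0, 0, 0],
  [0, 0, 2, 2, -2, 0, 2, 2, 0, 2, -2, 0, 2, -2, 4, 0, -2, 0, 0, 2, -2, 0, 0, 0],
  [-2, -2, 0, 0, 0, -2, 0, 0, 2, 0, 0, 2, -4, 0, 2, 2, 0, 2, -2, 0, 0, 2, -2, 2],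
  [0, 0, -2, 2, -2, 0, -2, 2, 0, 2, -2, 0, -2, 2, 0, 0, -2, 0, 0, -2, 2, -4, 0, 0],
  [0, 0, 2, 2, -2, -4, 2, -2, 0, 2, 2, 0, 2, 2, 0, 0, 2, 0, 0, -2, 2, 0, 0, 0],
  [-2, -2, 0, 0, 0, -2, 0, 0, 2, 0, 0, -2, 0, -4, -2, -2, 0, 2, 2, 0, 0, -2, -2, -2],
  [-2, -2, 0, 0, 0, -2, 0, 0, -2, -4, 0, -2, 0, 0, 2, 2, 0, -2, -2, 0, 0, -2, 2, -2],
  [0, 0, 2, 2, 2, 0, -2, -2, 0, -2, -2, 0, 2, 2, 0, 0, -2, 4, 0, 2, 2, 0, 0, 0],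
  [0, -4, -2, -2, -2, 0, -2, -2, 0, 2, -2, 0, 2, 2, 0, 0, 2, 0, 0, 2, -2, 0, 0, 0],
  [0, 0, 2, -2, -2, 0, -2, -2, -4, 2, 2, 0, -2, -2, 0, 0, -2, 0, 0, 2, 2, 0, 0, 0]]

theorem good_e : goodB mat_e = true := by decide +kernel

/-- eight times a matrix -/
def mat_f : List (List ℤ) := [
  [2, 0, 2, 0, 2, 2, 0, 2, -2, 0, 0, 2, 0, 2, 2, 0, 0, -2, 2, 2, -2, 2, -2, 2],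
  [0, 6, 0, 2, 0, 0, -2, 0, 0, -2, -2, 0, 2, 0, 0, 2, 2, 0, 0, 0, 0, 0, 0, 0],
  [2, 0, 2, 0, -2, 2, 0, 2, -2, 0, 0, 2, 0, -2, -2, 0, 0, -2, -2, -2, 2, 2, 2, -2],
  [0, 2, 0, 6, 0, 0, 2, 0, 0, 2, 2, 0, -2, 0, 0, -2, -2, 0, 0, 0, 0, 0, 0, 0],
  [2, 0, -2, 0, 2, -2, 0, -2, -2, 0, 0, 2, 0, 2, 2, 0, 0, -2, -2, -2, 2, -2, 2, 2],
  [2, 0, 2, 0, -2, 2, 0, -2, -2, 0, 0, -2, 0, 2, -2, 0, 0, 2, -2, 2, -2, -2, 2, 2],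
  [0, -2, 0, 2, 0, 0, -2, 0, 0, 6, -2, 0, 2, 0, 0, 2, 2, 0, 0, 0, 0, 0, 0, 0],
  [2, 0, 2, 0, -2, -2, 0, 2, 2, 0, 0, -2, 0, 2, 2, 0, 0, -2, -2, 2, 2, -2, -2, -2],
  [-2, 0, -2, 0, -2, -2, 0, 2, 2, 0, 0, 2, 0, 2, -2, 0, 0, -2, -2, 2, -2, 2, 2, 2],
  [0, -2, 0, 2, 0, 0, 6, 0, 0, -2, -2, 0, 2, 0, 0, 2, 2, 0, 0, 0, 0, 0, 0, 0],
  [0, -2, 0, 2, 0, 0, -2, 0, 0, -2, 6, 0, 2, 0, 0, 2, 2, 0, 0, 0, 0, 0, 0, 0],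
  [2, 0, 2, 0, 2, -2, 0, -2, 2, 0, 0, 2, 0, 2, -2, 0, 0, 2, 2, 2, 2, 2, 2, -2],
  [0, 2, 0, -2, 0, 0, 2, 0, 0, 2, 2, 0, 6, 0, 0, -2, -2, 0, 0, 0, 0, 0, 0, 0],
  [2, 0, -2, 0, 2, 2, 0, 2, 2, 0, 0, 2, 0, 2, -2, 0, 0, 2, -2, -2, -2, -2, -2, -2],
  [2, 0, -2, 0, 2, -2, 0, 2, -2, 0, 0, -2, 0, -2, 2, 0, 0, 2, -2, 2, -2, 2, 2, -2],
  [0, 2, 0, -2, 0, 0, 2, 0, 0, 2, 2, 0, -2, 0, 0, 6, -2, 0, 0, 0, 0, 0, 0, 0],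
  [0, 2, 0, -2, 0, 0, 2, 0, 0, 2, 2, 0, -2, 0, 0, -2, 6, 0, 0, 0, 0, 0, 0, 0],
  [-2, 0, -2, 0, -2, 2, 0, -2, -2, 0, 0, 2, 0, 2, 2, 0, 0, 2, -2, 2, 2, 2, -2, -2],
  [2, 0, -2, 0, -2, -2, 0, -2, -2, 0, 0, 2, 0, -2, -2, 0, 0, -2, 2, 2, -2, -2, -2, -2],
  [2, 0, -2, 0, -2, 2, 0, 2, 2, 0, 0, 2, 0, -2, 2, 0, 0, 2, 2, 2, 2, -2, 2, 2],
  [-2, 0, 2, 0, 2, -2, 0, 2, -2, 0, 0, 2, 0, -2, -2, 0, 0, 2, -2, 2, 2, -2, -2, 2],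
  [2, 0, 2, 0, -2, -2, 0, -2, 2, 0, 0, 2, 0, -2, 2, 0, 0, 2, -2, -2, -2, 2, -2, 2],
  [-2, 0, 2, 0, 2, 2, 0, -2, 2, 0, 0, 2, 0, -2, 2, 0, 0, -2, -2, 2, -2, -2, 2, -2],
  [2, 0, -2, 0, 2, 2, 0, -2, 2, 0, 0, -2, 0, -2, -2, 0, 0, -2, -2, 2, 2, 2, -2, 2]]

theorem good_f : goodB mat_f = true := by decide +kernel

/-- eight times a matrix -/
def mat_g : List (List ℤ) := [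
  [-2, 2, 0, 2, 0, 2, 0, 0, -6, 0, 0, 0, 0, 0, 0, 0, 0, 0, 2, -2, 0, 2, 0, 0],
  [2, 6, 0, -2, 0, -2, 0, 0, -2, 0, 0, 0, 0, 0, 0, 0, 0, 0, -2, 2, 0, -2, 0, 0],
  [0, 0, 2, 0, -2, 0, -2, 2, 0, -2, 2, 2, 2, -2, -2, -2, -2, -2, 0, 0, 2, 0, -2, -2],
  [2, -2, 0, 6, 0, -2, 0, 0, -2, 0, 0, 0, 0, 0, 0, 0, 0, 0, -2, 2, 0, -2, 0, 0],
  [0, 0, -2, 0, 2, 0, -2, 2, 0, 2, -2, 2, 2, -2, 2, -2, -2, 2, 0, 0, 2, 0, 2, 2],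
  [2, -2, 0, -2, 0, 6, 0, 0, -2, 0, 0, 0, 0, 0, 0, 0, 0, 0, -2, 2, 0, -2, 0, 0],
  [0, 0, -2, 0, -2, 0, 2, 2, 0, 2, -2, -2, 2, -2, 2, -2, 2, -2, 0, 0, -2, 0, -2, -2],
  [0, 0, 2, 0, 2, 0, 2, 2, 0, -2, -2, 2, -2, 2, 2, -2, 2, -2, 0, 0, 2, 0, -2, 2],
  [-6, -2, 0, -2, 0, -2, 0, 0, -2, 0, 0, 0, 0, 0, 0, 0, 0, 0, -2, 2, 0, -2, 0, 0],
  [0, 0, -2, 0, 2, 0, 2, -2, 0, 2, 2, 2, 2, -2, -2, 2, 2, -2, 0, 0, 2, 0, -2, 2],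
  [0, 0, 2, 0, -2, 0, -2, -2, 0, 2, 2, -2, 2, 2, 2, -2, 2, -2, 0, 0, 2, 0, 2, 2],
  [0, 0, 2, 0, 2, 0, -2, 2, 0, 2, -2, 2, 2, 2, -2, 2, 2, -2, 0, 0, -2, 0, 2, -2],
  [0, 0, 2, 0, 2, 0, 2, -2, 0, 2, 2, 2, 2, 2, 2, -2, -2, 2, 0, 0, -2, 0, -2, -2],
  [0, 0, -2, 0, -2, 0, -2, 2, 0, -2, 2, 2, 2, 2, 2, 2, 2, 2, 0, 0, -2, 0, -2, 2],
  [0, 0, -2, 0, 2, 0, 2, 2, 0, -2, 2, -2, 2, 2, 2, 2, -2, -2, 0, 0, 2, 0, 2, -2],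
  [0, 0, -2, 0, -2, 0, -2, -2, 0, 2, -2, 2, -2, 2, 2, 2, -2, -2, 0, 0, 2, 0, -2, -2],
  [0, 0, -2, 0, -2, 0, 2, 2, 0, 2, 2, 2, -2, 2, -2, -2, 2, 2, 0, 0, 2, 0, 2, -2],
  [0, 0, -2, 0, 2, 0, -2, -2, 0, -2, -2, -2, 2, 2, -2, -2, 2, 2, 0, 0, 2, 0, -2, -2],
  [2, -2, 0, -2, 0, -2, 0, 0, -2, 0, 0, 0, 0, 0, 0, 0, 0, 0, 6, 2, 0, -2, 0, 0],
  [-2, 2, 0, 2, 0, 2, 0, 0, 2, 0, 0, 0, 0, 0, 0, 0, 0, 0, 2, 6, 0, 2, 0, 0],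
  [0, 0, 2, 0, 2, 0, -2, 2, 0, 2, 2, -2, -2, -2, 2, 2, 2, 2, 0, 0, 2, 0, -2, -2],
  [2, -2, 0, -2, 0, -2, 0, 0, -2, 0, 0, 0, 0, 0, 0, 0, 0, 0, -2, 2, 0, 6, 0, 0],
  [0, 0, -2, 0, 2, 0, -2, -2, 0, -2, 2, 2, -2, -2, 2, -2, 2, -2, 0, 0, -2, 0, 2, -2],
  [0, 0, -2, 0, 2, 0, -2, 2, 0, 2, 2, -2, -2, 2, -2, -2, -2, -2, 0, 0, -2, 0, -2, 2]]

theorem good_g : goodB mat_g = true := by decide +kernel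

/-- eight times a matrix -/
def mat_w : List (List ℤ) := [
  [-4, 0, -2, 0, 0, 2, 0, 2, 2, -2, 2, -2, 2, 0, 0, 2, 0, 0, 0, -2, 0, 2, -2, 0],
  [0, -4, -2, 0, 0, 2, 0, -2, -2, 2, -2, -2, -2, 0, 0, 2, 0, 0, 0, -2, 0, -2, -2, 0],
  [2, 2, -4, -2, 2, 0, -2, 0, 0, 0, 0, 0, 0, 2, -2, 0, -2, 2, -2, 0, -2, 0, 0, -2],
  [0, 0, 2, -4, 0, -2, 0, 2, -2, -2, -2, -2, -2, 0, 0, -2, 0, 0, 0, -2, 0, 2, -2, 0],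
  [0, 0, -2, 0, -4, -2, 0, 2, -2, 2, 2, 2, -2, 0, 0, 2, 0, 0, 0, 2, 0, 2, -2, 0],
  [-2, -2, 0, 2, 2, -4, -2, 0, 0, 0, 0, 0, 0, 2, 2, 0, -2, -2, -2, 0, -2, 0, 0, 2],
  [0, 0, 2, 0, 0, 2, -4, 2, 2, 2, 2, 2, -2, 0, 0, -2, 0, 0, 0, -2, 0, -2, -2, 0],
  [-2, 2, 0, -2, -2, 0, -2, -4, 0, 0, 0, 0, 0, 2, -2, 0, -2, -2, 2, 0, 2, 0, 0, 2],
  [-2, 2, 0, 2, 2, 0, -2, 0, -4, 0, 0, 0, 0, -2, -2, 0, 2, -2, 2, 0, -2, 0, 0, -2],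
  [2, -2, 0, 2, -2, 0, -2, 0, 0, -4, 0, 0, 0, 2, -2, 0, 2, -2, -2, 0, 2, 0, 0, -2],
  [-2, 2, 0, 2, -2, 0, -2, 0, 0, 0, -4, 0, 0, -2, 2, 0, -2, 2, -2, 0, 2, 0, 0, -2],
  [2, 2, 0, 2, -2, 0, -2, 0, 0, 0, 0, -4, 0, 2, 2, 0, 2, 2, 2, 0, -2, 0, 0, 2],
  [-2, 2, 0, 2, 2, 0, 2, 0, 0, 0, 0, 0, -4, 2, -2, 0, 2, 2, -2, 0, 2, 0, 0, 2],
  [0, 0, -2, 0, 0, -2, 0, -2, 2, -2, 2, -2, -2, -4, 0, -2, 0, 0, 0, 2, 0, -2, -2, 0],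
  [0, 0, 2, 0, 0, -2, 0, 2, 2, 2, -2, -2, 2, 0, -4, 2, 0, 0, 0, 2, 0, -2, -2, 0],
  [-2, -2, 0, 2, -2, 0, 2, 0, 0, 0, 0, 0, 0, 2, -2, -4, -2, 2, 2, 0, -2, 0, 0, -2],
  [0, 0, 2, 0, 0, 2, 0, 2, -2, -2, 2, -2, -2, 0, 0, 2, -4, 0, 0, 2, 0, -2, 2, 0],
  [0, 0, -2, 0, 0, 2, 0, 2, 2, 2, -2, -2, -2, 0, 0, -2, 0, -4, 0, 2, 0, 2, 2, 0],
  [0, 0, 2, 0, 0, 2, 0, -2, -2, 2, 2, -2, 2, 0, 0, -2, 0, 0, -4, 2, 0, 2, -2, 0],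
  [2, 2, 0, 2, -2, 0, 2, 0, 0, 0, 0, 0, 0, -2, -2, 0, -2, -2, -2, -4, -2, 0, 0, 2],
  [0, 0, 2, 0, 0, 2, 0, -2, 2, -2, -2, 2, -2, 0, 0, 2, 0, 0, 0, 2, -4, 2, -2, 0],
  [-2, 2, 0, -2, -2, 0, 2, 0, 0, 0, 0, 0, 0, 2, 2, 0, 2, -2, -2, 0, -2, -4, 0, -2],
  [2, 2, 0, 2, 2, 0, 2, 0, 0, 0, 0, 0, 0, 2, 2, 0, -2, -2, 2, 0, 2, 0, -4, -2],
  [0, 0, 2, 0, 0, -2, 0, -2, 2, 2, 2, -2, -2, 0, 0, 2, 0, 0, 0, -2, 0, 2, 2, -4]]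

theorem good_w : goodB mat_w = true := by decide +kernel

end Cfsg.Agent.SuzCover
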